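import Cfsg.Agent.CompLen.Orbits

/-!
Primitive groups with an abelian regular normal subgroup.
-/

set_option autoImplicit false

namespace Cfsg.Agent.CompLen

open MulAction Subgroup ArithmeticFunction Finset

theorem arith_small (p d : ℕ) (hp : 2 ≤ p) (hd : 1 ≤ d) (hle : p ^ d ≤ 32) :
    3 * (d + ∑ i ∈ range d, Nat.log 2 (p ^ d - p ^ i)) + 4 ≤ 4 * p ^ d := by
  have hd5 : d ≤ 5 := by
    by_contra h
    have := Nat.pow_le_pow_left hp d
    have := Nat.pow_le_pow_right (show 0 < 2 by norm_num) (show 6 ≤ d by omega)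
    omega
  have hp32 : p ≤ 32 := (Nat.le_self_pow (by omega) p).trans hle
  have key : ∀ p < 33, ∀ d < 6, 2 ≤ p → 1 ≤ d → p ^ d ≤ 32 →
      3 * (d + ∑ i ∈ range d, Nat.log 2 (p ^ d - p ^ i)) + 4 ≤ 4 * p ^ d := by decide
  exact key p (by omega) d (by omega) hp hd hle

theorem arith_large {L : ℕ} (hL : 5 ≤ L) : 3 * (L + L * L) + 4 ≤ 4 * 2 ^ L := by
  induction L, hL using Nat.le_induction with
  | base => norm_num
  | succ L hL ih => rw [pow_succ]; nlinarith

theorem arith (p d : ℕ) (hp : 2 ≤ p) (hd : 1 ≤ d) :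
    3 * (d + ∑ i ∈ range d, Nat.log 2 (p ^ d - p ^ i)) + 4 ≤ 4 * p ^ d := by
  rcases Nat.lt_or_ge 32 (p ^ d) with h | h
  · set L := Nat.log 2 (p ^ d) with hL
    have h5 : 5 ≤ L := Nat.le_log_of_pow_le (by norm_num) h.le
    have hdL : d ≤ L := Nat.le_log_of_pow_le (by norm_num) (Nat.pow_le_pow_left hp d)
    have hs : ∑ i ∈ range d, Nat.log 2 (p ^ d - p ^ i) ≤ d * L := by
      calc _ ≤ ∑ _i ∈ range d, L := sum_le_sum fun i _ => Nat.log_mono_right (Nat.sub_le _ _)
        _ = d * L := by simp
    have hpow : 2 ^ L ≤ p ^ d := Nat.pow_log_le_self 2 (by positivity)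
    have := arith_large h5
    nlinarith [Nat.mul_le_mul_right L hdL]
  · exact arith_small p d hp hd h

variable {G X : Type*} [Group G] [Finite G] [MulAction G X] [FaithfulSMul G X]

theorem cardFactors_stab {p d : ℕ} (hp : p.Prime) (w : X) (N : Subgroup G) [N.Normal]
    (hcard : Nat.card N = p ^ d)
    (hcent : stabilizer G w ⊓ centralizer (N : Set G) = ⊥) :
    ∀ k j : ℕ, j + k = d → ∀ A : Subgroup G, A ≤ stabilizer G w →
      p ^ j ≤ Nat.card (N ⊓ centralizer (A : Set G) : Subgroup G) →
      cardFactors (Nat.card A) ≤ ∑ i ∈ Ico j d, Nat.log 2 (p ^ d - p ^ i) := by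
  intro k
  induction k with
  | zero =>
    intro j hj A hA hF
    obtain rfl : j = d := by omega
    have e : N ⊓ centralizer (A : Set G) = N :=
      eq_of_le_of_card_ge inf_le_left (hcard ▸ hF)
    have hA' : A = ⊥ := le_bot_iff.mp (hcent ▸ le_inf hA (le_centralizer_iff.mp (inf_eq_left.mp e)))
    simp [hA']
  | succ k ih =>
    intro j hj A hA hF
    have hsum : ∑ i ∈ Ico j d, Nat.log 2 (p ^ d - p ^ i)
        = Nat.log 2 (p ^ d - p ^ j) + ∑ i ∈ Ico (j + 1) d, Nat.log 2 (p ^ d - p ^ i) :=
      sum_eq_sum_Ico_succ_bot (by omega) _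
    rcases Nat.lt_or_ge (Nat.card (N ⊓ centralizer (A : Set G) : Subgroup G)) (p ^ (j + 1))
      with hlt | hge
    · obtain ⟨x, hxN, hxC⟩ : ∃ x ∈ N, x ∉ centralizer (A : Set G) := by
        by_contra! hall
        rw [inf_eq_left.mpr (hall : N ≤ centralizer (A : Set G)), hcard] at hlt
        exact absurd (Nat.pow_le_pow_right hp.pos (show j + 1 ≤ d by omega)) hlt.not_ge
      set F := N ⊓ centralizer (A : Set G) with hFdef
      set A' := A ⊓ centralizer ({x} : Set G) with hA'def
      set F' := N ⊓ centralizer (A' : Set G) with hF'def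
      have hFF : F ≤ F' := inf_le_inf_left _ (centralizer_le inf_le_left)
      have hxF' : x ∈ F' := by
        refine ⟨hxN, fun a ha => ?_⟩
        exact (mem_centralizer_singleton_iff.mp ha.2)
      have hne : F ≠ F' := fun e => hxC (e.symm ▸ hxF' : x ∈ F).2
      have hF'card : p ^ (j + 1) ≤ Nat.card F' := by
        obtain ⟨a, ha, hae⟩ := (Nat.dvd_prime_pow hp).mp (hcard ▸ card_dvd_of_le inf_le_left :
          Nat.card F ∣ p ^ d)
        obtain ⟨b, hb, hbe⟩ := (Nat.dvd_prime_pow hp).mp (hcard ▸ card_dvd_of_le inf_le_left :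
          Nat.card F' ∣ p ^ d)
        have hlt' : Nat.card F < Nat.card F' := by
          rcases Nat.lt_or_ge (Nat.card F) (Nat.card F') with h | h
          · exact h
          · exact absurd (eq_of_le_of_card_ge hFF h) hne
        rw [hae, hbe] at hlt'
        have hab := (Nat.pow_lt_pow_iff_right hp.one_lt).mp hlt'
        rw [hae] at hF
        have hja := (Nat.pow_le_pow_iff_right hp.one_lt).mp hF
        rw [hbe]
        exact Nat.pow_le_pow_right hp.pos (by omega)
      have hidx : A'.relIndex A ≤ p ^ d - p ^ j := by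
        have h1 : Nat.card {y : N // (y : G) ∉ F} ≤ p ^ d - p ^ j := by
          have : Nat.card {y : N // (y : G) ∈ F} = Nat.card F :=
            Nat.card_congr ((Equiv.subtypeSubtypeEquivSubtype fun {a} ha => ha.1))
          have h2 : Nat.card {y : N // (y : G) ∈ F} + Nat.card {y : N // (y : G) ∉ F}
              = p ^ d := by
            classical
            rw [← Nat.card_sum, ← hcard]
            exact Nat.card_congr (Equiv.sumCompl _)
          omega
        refine le_trans ?_ h1
        rw [relIndex, index_eq_card]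
        have hN := (inferInstance : N.Normal)
        refine Nat.card_le_card_of_injective
          (fun q => ⟨⟨(q.out : G) * x * (q.out : G)⁻¹, hN.conj_mem x hxN _⟩, fun hm => ?_⟩) ?_
        · have hc := mem_centralizer_iff.mp hm.2 (q.out : G) q.out.2
          simp only [mul_assoc, inv_mul_cancel, mul_one] at hc
          have hx : x = (q.out : G) * x * (q.out : G)⁻¹ := by
            have := mul_left_cancel (a := (q.out : G)) (c := x * (q.out : G)⁻¹ * (q.out : G))
              (b := (q.out : G) * (x * (q.out : G)⁻¹)) (by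
                simpa [mul_assoc] using hc)
            simpa [mul_assoc] using this.symm
          exact hxC (hx ▸ hm.2)
        · intro q r hqr
          have e : (q.out : G) * x * (q.out : G)⁻¹ = (r.out : G) * x * (r.out : G)⁻¹ :=
            congrArg (fun z => ((z : {y : N // (y : G) ∉ F}).1 : G)) hqr
          rw [← q.out_eq, ← r.out_eq]
          refine QuotientGroup.eq.mpr (mem_subgroupOf.mpr ⟨(q.out⁻¹ * r.out).2, ?_⟩)
          refine mem_centralizer_singleton_iff.mpr ?_
          rw [Subgroup.coe_mul, Subgroup.coe_inv]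
          calc ((q.out : G)⁻¹ * r.out) * x
              = (q.out : G)⁻¹ * ((r.out : G) * x * (r.out : G)⁻¹) * r.out := by group
            _ = (q.out : G)⁻¹ * ((q.out : G) * x * (q.out : G)⁻¹) * r.out := by rw [e]
            _ = x * ((q.out : G)⁻¹ * r.out) := by group
      have hmul : Nat.card A = Nat.card A' * A'.relIndex A := by
        rw [← relIndex_bot_left, ← relIndex_bot_left,
          relIndex_mul_relIndex ⊥ A' A bot_le inf_le_left]
      have h0 : A'.relIndex A ≠ 0 := fun e => by
        rw [e, mul_zero] at hmul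
        exact Nat.card_pos.ne' hmul
      rw [hmul, cardFactors_mul Nat.card_pos.ne' h0, hsum]
      have := ih (j + 1) (by omega) A' (inf_le_left.trans hA) hF'card
      have := cardFactors_le_log h0 hidx
      omega
    · have := ih (j + 1) (by omega) A hA hge
      omega

theorem bound_abelian [Finite X] {n : ℕ} (hn : Nat.card X = n) [IsPretransitive G X] (w : X)
    (N : Subgroup G) [N.Normal] (hNb : N ≠ ⊥) (hab : ∀ a ∈ N, ∀ b ∈ N, a * b = b * a) {p : ℕ}
    (hp : p.Prime) (hexp : ∀ x ∈ N, x ^ p = 1) (htop : stabilizer G w ⊔ N = ⊤) :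
    3 * clen G + 4 ≤ 4 * n := by
  have htr : ∀ y : X, ∃ a ∈ N, a • w = y := by
    intro y
    obtain ⟨g, rfl⟩ := exists_smul_eq G w y
    obtain ⟨a, ha, h, hh, rfl⟩ := (mem_sup_of_normal_left (t := stabilizer G w)).mp
      (show g ∈ N ⊔ stabilizer G w by rw [sup_comm, htop]; exact mem_top g)
    exact ⟨a, ha, by rw [mul_smul, mem_stabilizer_iff.mp hh]⟩
  have hfix : ∀ c, c ∈ stabilizer G w → c ∈ centralizer (N : Set G) → c = 1 := by
    intro c hc hcc
    refine eq_of_smul_eq_smul fun y : X => ?_
    obtain ⟨a, ha, rfl⟩ := htr y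
    rw [one_smul, ← mul_smul, ← hcc a ha, mul_smul, mem_stabilizer_iff.mp hc]
  have hcent : stabilizer G w ⊓ centralizer (N : Set G) = ⊥ :=
    le_bot_iff.mp fun c hc => mem_bot.mpr (hfix c hc.1 hc.2)
  have hinj : Function.Bijective (fun a : N => (a : G) • w) := by
    refine ⟨fun a b e => ?_, fun y => ?_⟩
    · have hm : (b : G)⁻¹ * a ∈ N := N.mul_mem (N.inv_mem b.2) a.2
      have := hfix _ (mem_stabilizer_iff.mpr (by
        rw [mul_smul]; exact inv_smul_eq_iff.mpr e)) (fun c hc => hab c hc _ hm)
      exact Subtype.ext (inv_mul_eq_one.mp this).symm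
    · obtain ⟨a, ha, e⟩ := htr y
      exact ⟨⟨a, ha⟩, e⟩
  have hcardN : Nat.card N = n := hn ▸ Nat.card_eq_of_bijective _ hinj
  have := Fact.mk hp
  obtain ⟨d, hd⟩ := IsPGroup.iff_card.mp (fun x : N => ⟨1, Subtype.ext (by simpa using hexp x x.2)⟩ :
    IsPGroup p N)
  have hd1 : 1 ≤ d := by
    by_contra h
    rw [show d = 0 by omega, pow_zero, Subgroup.card_eq_one] at hd
    exact hNb hd
  have hq : Function.Surjective ((QuotientGroup.mk' N).comp (stabilizer G w).subtype) := by
    intro q
    induction q using QuotientGroup.induction_on with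
    | H g =>
      obtain ⟨h, hh, a, ha, rfl⟩ := (mem_sup_of_normal_right (t := N)).mp
        (show g ∈ stabilizer G w ⊔ N by rw [htop]; exact mem_top g)
      refine ⟨⟨h, hh⟩, QuotientGroup.eq.mpr ?_⟩
      simpa using ha
  have h1 := clen_le_normal_add_quotient N
  have h2 : clen (G ⧸ N) ≤ clen (stabilizer G w) := clen_le_of_surjective _ hq
  have h3 : clen N ≤ d := clen_le_cardFactors.trans
    (le_of_eq (by rw [hd, cardFactors_apply_prime_pow hp]))
  have h4 : cardFactors (Nat.card (stabilizer G w))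
      ≤ ∑ i ∈ range d, Nat.log 2 (p ^ d - p ^ i) := by
    rw [range_eq_Ico]
    exact cardFactors_stab hp w N hd hcent d 0 (by omega) _ le_rfl
      (by rw [pow_zero]; exact Nat.card_pos)
  have h5 : clen (stabilizer G w) ≤ cardFactors (Nat.card (stabilizer G w)) := clen_le_cardFactors
  have := arith p d hp.two_le hd1
  rw [← hcardN, hd]
  omega

end Cfsg.Agent.CompLen
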