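import Mathlib

/-!
The longest subnormal chain of a finite group: behaviour under homomorphisms, bounds by the
number of prime factors of the order, and the reduction to orbits for permutation groups.
-/

set_option autoImplicit false

namespace Cfsg.Agent.CompLen

open Subgroup ArithmeticFunction

variable {G : Type*} [Group G]

/-- `Ch K l`: a strictly increasing subnormal chain of length `l` from `⊥` to `K`. -/
inductive Ch : Subgroup G → ℕ → Prop
  | bot : Ch ⊥ 0
  | step {H K : Subgroup G} {l : ℕ} : Ch H l → H < K →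
      (∀ k ∈ K, ∀ h ∈ H, k * h * k⁻¹ ∈ H) → Ch K (l + 1)

/-- The maximal length of a subnormal chain. -/
noncomputable def clen (G : Type*) [Group G] : ℕ := sSup {l | Ch (⊤ : Subgroup G) l}

theorem Ch.add_le [Finite G] {K : Subgroup G} {l : ℕ} (h : Ch K l) :
    l ≤ cardFactors (Nat.card K) := by
  induction h with
  | bot => simp
  | @step H K l _ hlt _ ih =>
    have hc : Nat.card H * H.relIndex K = Nat.card K := by
      rw [← relIndex_bot_left, ← relIndex_bot_left, relIndex_mul_relIndex ⊥ H K bot_le hlt.le]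
    have hK : Nat.card K ≠ 0 := Nat.card_pos.ne'
    have hi : 1 < H.relIndex K := by
      rcases Nat.lt_or_ge 1 (H.relIndex K) with h1 | h1
      · exact h1
      · interval_cases e : H.relIndex K
        · rw [mul_zero] at hc; exact absurd hc.symm hK
        · exact absurd (relIndex_eq_one.mp e) hlt.not_ge
    rw [← hc, cardFactors_mul Nat.card_pos.ne' (by omega)]
    have := cardFactors_pos_iff_one_lt.mpr hi
    omega

theorem bddAbove_ch [Finite G] : BddAbove {l | Ch (⊤ : Subgroup G) l} :=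
  ⟨cardFactors (Nat.card (⊤ : Subgroup G)), fun _ h => Ch.add_le h⟩

theorem Ch.le_clen [Finite G] {l : ℕ} (h : Ch (⊤ : Subgroup G) l) : l ≤ clen G :=
  le_csSup bddAbove_ch h

theorem clen_le {B : ℕ} (h : ∀ l, Ch (⊤ : Subgroup G) l → l ≤ B) : clen G ≤ B := by
  rcases Set.eq_empty_or_nonempty {l | Ch (⊤ : Subgroup G) l} with e | e
  · simp [clen, e]
  · exact csSup_le e h

theorem clen_le_cardFactors [Finite G] : clen G ≤ cardFactors (Nat.card G) :=
  clen_le fun _ h => (Ch.add_le h).trans (by rw [card_top])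

theorem two_pow_cardFactors_le {n : ℕ} (hn : n ≠ 0) : 2 ^ cardFactors n ≤ n := by
  rw [cardFactors_apply]
  conv_rhs => rw [← Nat.prod_primeFactorsList hn]
  exact List.pow_card_le_prod _ 2 fun p hp => (Nat.prime_of_mem_primeFactorsList hp).two_le

theorem cardFactors_le_log {n m : ℕ} (hn : n ≠ 0) (hm : n ≤ m) : cardFactors n ≤ Nat.log 2 m :=
  Nat.le_log_of_pow_le (by norm_num) ((two_pow_cardFactors_le hn).trans hm)

theorem clen_le_log [Finite G] : clen G ≤ Nat.log 2 (Nat.card G) :=
  clen_le_cardFactors.trans (cardFactors_le_log Nat.card_pos.ne' le_rfl)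

theorem clen_le_one_of_simple [IsSimpleGroup G] : clen G ≤ 1 := by
  refine clen_le fun l h => ?_
  generalize hK : (⊤ : Subgroup G) = K at h
  cases h with
  | bot => omega
  | @step H K l hH hlt hn =>
    subst hK
    have hHn : H.Normal := ⟨fun h hh k => hn k (mem_top k) h hh⟩
    rcases hHn.eq_bot_or_eq_top with rfl | rfl
    · cases hH with
      | bot => omega
      | step _ hlt' _ => exact absurd hlt' not_lt_bot
    · exact absurd hlt (lt_irrefl _)

theorem Ch.map {Q : Type*} [Group Q] {K : Subgroup G} {l : ℕ} (h : Ch K l) (f : G →* Q)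
    (hf : Function.Injective f) : Ch (K.map f) l := by
  induction h with
  | bot => rw [Subgroup.map_bot]; exact Ch.bot
  | @step H K l _ hlt hn ih =>
    refine Ch.step ih ((map_lt_map_iff_of_injective hf).mpr hlt) ?_
    rintro _ ⟨k, hk, rfl⟩ _ ⟨x, hx, rfl⟩
    exact ⟨k * x * k⁻¹, hn k hk x hx, by simp⟩

theorem clen_le_of_equiv {Q : Type*} [Group Q] [Finite Q] (e : G ≃* Q) : clen G ≤ clen Q :=
  clen_le fun _ h => by
    have := h.map e.toMonoidHom e.injective
    rw [map_top_of_surjective _ e.surjective] at this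
    exact this.le_clen

theorem Ch.split {Q : Type*} [Group Q] (f : G →* Q) {K : Subgroup G} {l : ℕ} (h : Ch K l) :
    ∃ a b, Ch (K.subgroupOf f.ker) a ∧ Ch (K.map f.rangeRestrict) b ∧ l ≤ a + b := by
  induction h with
  | bot =>
    refine ⟨0, 0, ?_, ?_, le_rfl⟩
    · rw [bot_subgroupOf]; exact Ch.bot
    · rw [Subgroup.map_bot]; exact Ch.bot
  | @step H K l _ hlt hn ih =>
    obtain ⟨a, b, ha, hb, hab⟩ := ih
    have h1 : H.subgroupOf f.ker ≤ K.subgroupOf f.ker := fun x hx => hlt.le hx
    have h2 : H.map f.rangeRestrict ≤ K.map f.rangeRestrict := map_mono hlt.le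
    have n1 : ∀ k ∈ K.subgroupOf f.ker, ∀ x ∈ H.subgroupOf f.ker,
        k * x * k⁻¹ ∈ H.subgroupOf f.ker := fun k hk x hx => hn k hk x hx
    have n2 : ∀ k ∈ K.map f.rangeRestrict, ∀ x ∈ H.map f.rangeRestrict,
        k * x * k⁻¹ ∈ H.map f.rangeRestrict := by
      rintro _ ⟨k, hk, rfl⟩ _ ⟨x, hx, rfl⟩
      exact ⟨k * x * k⁻¹, hn k hk x hx, by simp⟩
    rcases h1.eq_or_lt with e1 | e1 <;> rcases h2.eq_or_lt with e2 | e2
    · exfalso
      refine hlt.not_ge fun k hk => ?_
      have hm : f.rangeRestrict k ∈ H.map f.rangeRestrict := e2 ▸ mem_map_of_mem _ hk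
      obtain ⟨x, hx, hxe⟩ := hm
      have hmem : x⁻¹ * k ∈ f.ker := by
        rw [← f.ker_rangeRestrict, MonoidHom.mem_ker, map_mul, map_inv, hxe, inv_mul_cancel]
      have : (⟨x⁻¹ * k, hmem⟩ : f.ker) ∈ H.subgroupOf f.ker :=
        e1 ▸ mem_subgroupOf.mpr (K.mul_mem (K.inv_mem (hlt.le hx)) hk)
      simpa using H.mul_mem hx (mem_subgroupOf.mp this)
    · exact ⟨a, b + 1, e1 ▸ ha, hb.step e2 n2, by omega⟩
    · exact ⟨a + 1, b, ha.step e1 n1, e2 ▸ hb, by omega⟩
    · exact ⟨a + 1, b + 1, ha.step e1 n1, hb.step e2 n2, by omega⟩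

theorem clen_le_ker_add_range {Q : Type*} [Group Q] [Finite G] (f : G →* Q) :
    clen G ≤ clen f.ker + clen f.range := by
  refine clen_le fun l h => ?_
  have : Finite f.range := Finite.of_surjective _ f.rangeRestrict_surjective
  obtain ⟨a, b, ha, hb, hab⟩ := h.split f
  rw [top_subgroupOf] at ha
  rw [map_top_of_surjective _ f.rangeRestrict_surjective] at hb
  have := ha.le_clen
  have := hb.le_clen
  omega

theorem clen_le_normal_add_quotient [Finite G] (N : Subgroup G) [N.Normal] :
    clen G ≤ clen N + clen (G ⧸ N) := by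
  have h := clen_le_ker_add_range (QuotientGroup.mk' N)
  have h1 : clen (QuotientGroup.mk' N).ker ≤ clen N :=
    clen_le_of_equiv (MulEquiv.subgroupCongr (QuotientGroup.ker_mk' N))
  have h2 : clen (QuotientGroup.mk' N).range ≤ clen (G ⧸ N) :=
    clen_le_of_equiv ((MulEquiv.subgroupCongr
      (MonoidHom.range_eq_top.mpr (QuotientGroup.mk'_surjective N))).trans topEquiv)
  omega

theorem exists_ch [Finite G] (K : Subgroup G) [K.Normal] : ∃ l, Ch K l := by
  by_cases h : K = ⊥
  · exact ⟨0, h ▸ Ch.bot⟩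
  · exact ⟨1, Ch.bot.step (bot_lt_iff_ne_bot.mpr h) fun k _ x hx => by simp_all⟩

theorem clen_le_of_surjective [Finite G] {Q : Type*} [Group Q] (f : G →* Q)
    (hf : Function.Surjective f) : clen Q ≤ clen G := by
  refine clen_le fun l h => ?_
  have key : ∀ K m, Ch K m → ∃ m', m ≤ m' ∧ Ch (K.comap f) m' := by
    intro K m hK
    induction hK with
    | bot =>
      obtain ⟨a, ha⟩ := exists_ch f.ker
      exact ⟨a, Nat.zero_le _, by rwa [MonoidHom.comap_bot]⟩
    | @step H K m _ hlt hn ih =>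
      obtain ⟨m', hm', hc⟩ := ih
      refine ⟨m' + 1, by omega, hc.step ((comap_lt_comap_of_surjective hf).mpr hlt) ?_⟩
      intro k hk x hx
      simpa [mem_comap] using hn (f k) hk (f x) hx
  obtain ⟨m', hm', hc⟩ := key ⊤ l h
  rw [comap_top] at hc
  exact hm'.trans hc.le_clen

end Cfsg.Agent.CompLen
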