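import Cfsg.Agent.ExtremelyPrim.Factor

/-!
A subgroup generated by pairwise commuting non-abelian simple subgroups: components, and the
structure of a subgroup projecting onto every factor.
-/

set_option autoImplicit false

namespace Cfsg.Agent.CompLen

open Subgroup

variable {G : Type*} [Group G]

/-- `N` is generated by the pairwise commuting non-abelian simple groups in `Fac`, all of order
`t`. -/
structure Factors (N : Subgroup G) (Fac : Finset (Subgroup G)) (t : ℕ) : Prop where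
  le : ∀ S ∈ Fac, S ≤ N
  sup : N ≤ Fac.sup id
  simple : ∀ S ∈ Fac, IsSimpleGroup S
  inf_cent : ∀ S ∈ Fac, S ⊓ centralizer (S : Set G) = ⊥
  comm : ∀ S ∈ Fac, ∀ U ∈ Fac, S ≠ U → S ≤ centralizer (U : Set G)
  card : ∀ S ∈ Fac, Nat.card S = t

/-- The elements of `S` inducing the same conjugation on `S` as some element of `D`. -/
def IsComp (S : Subgroup G) (x s : G) : Prop := s ∈ S ∧ s⁻¹ * x ∈ centralizer (S : Set G)

theorem IsComp.mul {S : Subgroup G} {x y s r : G} (h : IsComp S x s) (h' : IsComp S y r) :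
    IsComp S (x * y) (s * r) := by
  refine ⟨S.mul_mem h.1 h'.1, ?_⟩
  have hc : r⁻¹ * (s⁻¹ * x) = (s⁻¹ * x) * r⁻¹ :=
    mem_centralizer_iff.mp h.2 r⁻¹ (S.inv_mem h'.1)
  have e : (s * r)⁻¹ * (x * y) = (s⁻¹ * x) * (r⁻¹ * y) := by
    rw [mul_inv_rev, show r⁻¹ * s⁻¹ * (x * y) = r⁻¹ * (s⁻¹ * x) * y by group, hc]
    group
  rw [e]
  exact mul_mem h.2 h'.2

theorem IsComp.inv {S : Subgroup G} {x s : G} (h : IsComp S x s) : IsComp S x⁻¹ s⁻¹ := by
  refine ⟨S.inv_mem h.1, ?_⟩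
  have hc : s * (s⁻¹ * x)⁻¹ = (s⁻¹ * x)⁻¹ * s :=
    mem_centralizer_iff.mp (inv_mem h.2) s h.1
  have e : s⁻¹⁻¹ * x⁻¹ = (s⁻¹ * x)⁻¹ := by
    rw [inv_inv]
    have e1 : (s⁻¹ * x)⁻¹ = x⁻¹ * s := by group
    rw [e1] at hc ⊢
    calc s * x⁻¹ = s * (x⁻¹ * s) * s⁻¹ := by group
      _ = x⁻¹ * s * s * s⁻¹ := by rw [hc]
      _ = x⁻¹ * s := by group
  rw [e]
  exact inv_mem h.2

theorem IsComp.conj_eq {S : Subgroup G} {x s a : G} (h : IsComp S x s) (ha : a ∈ S) :
    x * a * x⁻¹ = s * a * s⁻¹ := by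
  have hc : a * (s⁻¹ * x) = (s⁻¹ * x) * a := mem_centralizer_iff.mp h.2 a ha
  calc x * a * x⁻¹ = s * ((s⁻¹ * x) * a) * x⁻¹ := by group
    _ = s * (a * (s⁻¹ * x)) * x⁻¹ := by rw [hc]
    _ = s * a * s⁻¹ := by group

/-- The projection of `D` to `S`. -/
def pr (S D : Subgroup G) : Subgroup G where
  carrier := {s | ∃ d ∈ D, IsComp S d s}
  one_mem' := ⟨1, D.one_mem, S.one_mem, by simp⟩
  mul_mem' := by
    rintro s r ⟨d, hd, h⟩ ⟨e, he, h'⟩
    exact ⟨d * e, D.mul_mem hd he, h.mul h'⟩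
  inv_mem' := by
    rintro s ⟨d, hd, h⟩
    exact ⟨d⁻¹, D.inv_mem hd, h.inv⟩

theorem pr_le (S D : Subgroup G) : pr S D ≤ S := fun _ ⟨_, _, h⟩ => h.1

variable {N : Subgroup G} {Fac : Finset (Subgroup G)} {t : ℕ}

theorem Factors.sup_le_cent (hF : Factors N Fac t) {J : Finset (Subgroup G)} (hJ : J ⊆ Fac)
    {U : Subgroup G} (hU : U ∈ Fac) (hUJ : U ∉ J) : J.sup id ≤ centralizer (U : Set G) :=
  Finset.sup_le fun S hS => hF.comm S (hJ hS) U hU fun e => hUJ (e ▸ hS)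

theorem Factors.inf_sup (hF : Factors N Fac t) {J : Finset (Subgroup G)} (hJ : J ⊆ Fac)
    {U : Subgroup G} (hU : U ∈ Fac) (hUJ : U ∉ J) {x : G} (hx : x ∈ U) (hx' : x ∈ J.sup id) :
    x = 1 :=
  mem_bot.mp (hF.inf_cent U hU ▸ (mem_inf.mpr ⟨hx, hF.sup_le_cent hJ hU hUJ hx'⟩))

theorem Factors.sup_le (hF : Factors N Fac t) {J : Finset (Subgroup G)} (hJ : J ⊆ Fac) :
    J.sup id ≤ N :=
  Finset.sup_le fun S hS => hF.le S (hJ hS)

theorem Factors.mem_insert (hF : Factors N Fac t) [DecidableEq (Subgroup G)]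
    {J : Finset (Subgroup G)} (hJ : J ⊆ Fac) {U : Subgroup G} (hU : U ∈ Fac) (hUJ : U ∉ J)
    {x : G} : x ∈ (insert U J).sup id ↔ ∃ y ∈ J.sup id, ∃ u ∈ U, y * u = x := by
  rw [Finset.sup_insert, id_eq, sup_comm]
  constructor
  · intro hx
    have hcomm : ∀ (a : (J.sup id : Subgroup G)) (b : U),
        Commute ((J.sup id).subtype a) (U.subtype b) := fun a b =>
      (mem_centralizer_iff.mp (hF.sup_le_cent hJ hU hUJ a.2) b b.2).symm
    have hr := MonoidHom.noncommCoprod_range (f := (J.sup id).subtype) (g := U.subtype) hcomm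
    rw [range_subtype, range_subtype] at hr
    rw [← hr] at hx
    obtain ⟨⟨a, b⟩, rfl⟩ := hx
    exact ⟨a, a.2, b, b.2, rfl⟩
  · rintro ⟨y, hy, u, hu, rfl⟩
    exact mul_mem (mem_sup_left hy) (mem_sup_right hu)

theorem Factors.eq_one (hF : Factors N Fac t) : ∀ J ⊆ Fac, ∀ x ∈ J.sup id,
    (∀ S ∈ J, x ∈ centralizer (S : Set G)) → x = 1 := by
  classical
  intro J
  induction J using Finset.induction_on with
  | empty => intro _ x hx _; simpa using hx
  | @insert U J hUJ ih =>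
    intro hJ x hx hc
    have hU := hJ (Finset.mem_insert_self U J)
    have hJ' : J ⊆ Fac := (Finset.subset_insert U J).trans hJ
    obtain ⟨y, hy, u, hu, rfl⟩ := (hF.mem_insert hJ' hU hUJ).mp hx
    have hyU := hF.sup_le_cent hJ' hU hUJ hy
    have hu1 : u = 1 := by
      have : y⁻¹ * (y * u) ∈ centralizer (U : Set G) :=
        mul_mem (inv_mem hyU) (hc U (Finset.mem_insert_self U J))
      rw [inv_mul_cancel_left] at this
      exact mem_bot.mp (hF.inf_cent U hU ▸ mem_inf.mpr ⟨hu, this⟩)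
    subst hu1
    rw [mul_one] at hc ⊢
    exact ih hJ' y hy fun S hS => hc S (Finset.mem_insert_of_mem hS)

theorem Factors.eq_one' (hF : Factors N Fac t) {x : G} (hx : x ∈ N)
    (hc : ∀ S ∈ Fac, x ∈ centralizer (S : Set G)) : x = 1 :=
  hF.eq_one Fac subset_rfl x (hF.sup hx) hc

theorem Factors.card_sup [Finite G] (hF : Factors N Fac t) : ∀ J ⊆ Fac,
    Nat.card (J.sup id : Subgroup G) = t ^ J.card := by
  classical
  intro J
  induction J using Finset.induction_on with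
  | empty => intro _; simp
  | @insert U J hUJ ih =>
    intro hJ
    have hU := hJ (Finset.mem_insert_self U J)
    have hJ' : J ⊆ Fac := (Finset.subset_insert U J).trans hJ
    rw [Finset.card_insert_of_notMem hUJ, pow_succ, ← ih hJ', ← hF.card U hU, ← Nat.card_prod]
    refine (Nat.card_eq_of_bijective (fun (p : ↥(J.sup id) × U) =>
      (⟨(p.1 : G) * p.2, (hF.mem_insert hJ' hU hUJ).mpr ⟨_, p.1.2, _, p.2.2, rfl⟩⟩ :
        ((insert U J).sup id : Subgroup G))) ⟨?_, ?_⟩).symm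
    · rintro ⟨a, b⟩ ⟨a', b'⟩ e
      have e' : (a : G) * b = a' * b' := congrArg Subtype.val e
      have hm : (a' : G)⁻¹ * a = b' * (b : G)⁻¹ :=
        calc (a' : G)⁻¹ * a = (a' : G)⁻¹ * ((a : G) * b) * (b : G)⁻¹ := by group
          _ = b' * (b : G)⁻¹ := by rw [e']; group
      have h1 := hF.inf_sup hJ' hU hUJ (x := (a' : G)⁻¹ * a)
        (hm ▸ U.mul_mem b'.2 (U.inv_mem b.2)) (mul_mem (inv_mem a'.2) a.2)
      have ha : a = a' := Subtype.ext (inv_mul_eq_one.mp h1).symm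
      subst ha
      exact Prod.ext rfl (Subtype.ext (mul_left_cancel e'))
    · rintro ⟨x, hx⟩
      obtain ⟨y, hy, u, hu, rfl⟩ := (hF.mem_insert hJ' hU hUJ).mp hx
      exact ⟨(⟨y, hy⟩, ⟨u, hu⟩), rfl⟩

theorem Factors.exists_comp (hF : Factors N Fac t) {S : Subgroup G} (hS : S ∈ Fac) {x : G}
    (hx : x ∈ N) : ∃ s, IsComp S x s := by
  classical
  suffices H : ∀ J ⊆ Fac, ∀ y ∈ J.sup id, ∃ s, IsComp S y s from H Fac subset_rfl x (hF.sup hx)
  intro J
  induction J using Finset.induction_on with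
  | empty =>
    intro _ y hy
    obtain rfl : y = 1 := by simpa using hy
    exact ⟨1, S.one_mem, by simp⟩
  | @insert U J hUJ ih =>
    intro hJ z hz
    have hU := hJ (Finset.mem_insert_self U J)
    have hJ' : J ⊆ Fac := (Finset.subset_insert U J).trans hJ
    obtain ⟨y, hy, u, hu, rfl⟩ := (hF.mem_insert hJ' hU hUJ).mp hz
    obtain ⟨s, hs⟩ := ih hJ' y hy
    by_cases e : U = S
    · exact ⟨s * u, hs.mul ⟨e ▸ hu, by simp⟩⟩
    · refine ⟨s * 1, hs.mul ⟨S.one_mem, ?_⟩⟩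
      rw [inv_one, one_mul]
      exact hF.comm U hU S hS e hu

theorem Factors.comp_unique (hF : Factors N Fac t) {S : Subgroup G} (hS : S ∈ Fac) {x s r : G}
    (h : IsComp S x s) (h' : IsComp S x r) : s = r := by
  have hm : s⁻¹ * r ∈ centralizer (S : Set G) := by
    have := mul_mem h.2 (inv_mem h'.2)
    simpa [mul_assoc] using this
  have := mem_bot.mp (hF.inf_cent S hS ▸ mem_inf.mpr ⟨S.mul_mem (S.inv_mem h.1) h'.1, hm⟩)
  exact inv_mul_eq_one.mp this

theorem Factors.conj_sup (hF : Factors N Fac t) {J : Finset (Subgroup G)} (hJ : J ⊆ Fac) {x y : G}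
    (hx : x ∈ N) (hy : y ∈ J.sup id) : x * y * x⁻¹ ∈ J.sup id := by
  have : J.sup id ≤ (J.sup id).comap (MulAut.conj x).toMonoidHom := by
    refine Finset.sup_le fun S hS a ha => ?_
    obtain ⟨s, hs⟩ := hF.exists_comp (hJ hS) hx
    rw [mem_comap]
    show x * a * x⁻¹ ∈ J.sup id
    rw [hs.conj_eq ha]
    exact Finset.le_sup (f := id) hS (S.mul_mem (S.mul_mem hs.1 ha) (S.inv_mem hs.1))
  exact this hy

/-- The projection of a subgroup normalised by `L` to a factor onto which `L` projects. -/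
theorem Factors.pr_eq (hF : Factors N Fac t) {L D : Subgroup G} (hDN : D ≤ N)
    (hnorm : ∀ l ∈ L, ∀ d ∈ D, l * d * l⁻¹ ∈ D) {S : Subgroup G} (hS : S ∈ Fac)
    (hfull : pr S L = S) (hD : ¬ D ≤ centralizer (S : Set G)) : pr S D = S := by
  have := hF.simple S hS
  have hn : ((pr S D).subgroupOf S).Normal := by
    refine ⟨fun r hr s => ?_⟩
    obtain ⟨d, hd, h⟩ := mem_subgroupOf.mp hr
    obtain ⟨l, hl, h'⟩ : (s : G) ∈ pr S L := hfull.symm ▸ s.2
    refine mem_subgroupOf.mpr ⟨l * d * l⁻¹, hnorm l hl d hd, ?_⟩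
    exact (h'.mul h).mul h'.inv
  rcases hn.eq_bot_or_eq_top with e | e
  · exfalso
    refine hD fun d hd => ?_
    obtain ⟨s, hs⟩ := hF.exists_comp hS (hDN hd)
    have : (⟨s, hs.1⟩ : S) ∈ (pr S D).subgroupOf S := mem_subgroupOf.mpr ⟨d, hd, hs⟩
    rw [e, mem_bot, Subtype.ext_iff] at this
    have h1 : s = 1 := this
    simpa [h1] using hs.2
  · exact le_antisymm (pr_le S D) (subgroupOf_eq_top.mp e)

/-- A subgroup projecting onto every factor and meeting none meets the product of at least half of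
the factors trivially. -/
theorem Factors.exists_half (hF : Factors N Fac t) {L : Subgroup G} (hLN : L ≤ N)
    (hfull : ∀ S ∈ Fac, pr S L = S) (hint : ∀ S ∈ Fac, S ⊓ L = ⊥) :
    ∃ J ⊆ Fac, J.sup id ⊓ L = ⊥ ∧ Fac.card ≤ 2 * J.card := by
  classical
  obtain ⟨J, hJm, hmax⟩ := (Fac.powerset.filter fun J => J.sup id ⊓ L = ⊥).exists_max_image
    Finset.card ⟨∅, Finset.mem_filter.mpr ⟨Finset.empty_mem_powerset _, by simp⟩⟩
  obtain ⟨hJ, hJL⟩ := Finset.mem_filter.mp hJm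
  rw [Finset.mem_powerset] at hJ
  refine ⟨J, hJ, hJL, ?_⟩
  set D : Subgroup G → Subgroup G := fun U => (insert U J).sup id ⊓ L with hDdef
  have hins : ∀ U ∈ Fac \ J, U ∈ Fac ∧ U ∉ J ∧ insert U J ⊆ Fac := fun U hU =>
    ⟨(Finset.mem_sdiff.mp hU).1, (Finset.mem_sdiff.mp hU).2,
      Finset.insert_subset (Finset.mem_sdiff.mp hU).1 hJ⟩
  have hnorm : ∀ U ∈ Fac \ J, ∀ l ∈ L, ∀ d ∈ D U, l * d * l⁻¹ ∈ D U := fun U hU l hl d hd =>
    ⟨hF.conj_sup (hins U hU).2.2 (hLN hl) hd.1, L.mul_mem (L.mul_mem hl hd.2) (L.inv_mem hl)⟩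
  have hne : ∀ U ∈ Fac \ J, D U ≠ ⊥ := by
    intro U hU e
    have := hmax (insert U J) (Finset.mem_filter.mpr
      ⟨Finset.mem_powerset.mpr (hins U hU).2.2, e⟩)
    rw [Finset.card_insert_of_notMem (hins U hU).2.1] at this
    omega
  have hdisj : ∀ U ∈ Fac \ J, ∀ d ∈ D U, d ∈ centralizer (U : Set G) → d = 1 := by
    intro U hU d hd hc
    obtain ⟨hUF, hUJ, hins'⟩ := hins U hU
    obtain ⟨y, hy, u, hu, rfl⟩ := (hF.mem_insert hJ hUF hUJ).mp hd.1
    have hu1 : u = 1 := by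
      have : y⁻¹ * (y * u) ∈ centralizer (U : Set G) :=
        mul_mem (inv_mem (hF.sup_le_cent hJ hUF hUJ hy)) hc
      rw [inv_mul_cancel_left] at this
      exact mem_bot.mp (hF.inf_cent U hUF ▸ mem_inf.mpr ⟨hu, this⟩)
    subst hu1
    rw [mul_one] at hd ⊢
    exact mem_bot.mp (hJL ▸ mem_inf.mpr ⟨hy, hd.2⟩)
  have hex : ∀ U ∈ Fac \ J, ∃ S ∈ J, ¬ D U ≤ centralizer (S : Set G) := by
    intro U hU
    obtain ⟨hUF, hUJ, hins'⟩ := hins U hU
    by_contra! hall
    refine hne U hU (le_bot_iff.mp fun d hd => mem_bot.mpr ?_)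
    obtain ⟨y, hy, u, hu, rfl⟩ := (hF.mem_insert hJ hUF hUJ).mp hd.1
    have hy1 : y = 1 := hF.eq_one J hJ y hy fun S hS => by
      have huS : u ∈ centralizer (S : Set G) :=
        hF.comm U hUF S (hJ hS) (fun e => hUJ (e ▸ hS)) hu
      have := mul_mem (hall S hS hd) (inv_mem huS)
      rwa [mul_inv_cancel_right] at this
    subst hy1
    rw [one_mul] at hd ⊢
    exact mem_bot.mp (hint U hUF ▸ mem_inf.mpr ⟨hu, hd.2⟩)
  choose! f hfJ hf using hex
  have hinj : Set.InjOn f (Fac \ J : Finset (Subgroup G)) := by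
    intro U hU V hV e
    by_contra hUV
    rw [Finset.mem_coe] at hU hV
    set S := f U with hSdef
    have hS : S ∈ Fac := hJ (hfJ U hU)
    have hcommDE : ∀ d ∈ D U, ∀ e' ∈ D V, d * e' = e' * d := by
      intro d hd e' he'
      have h1 : d * e' * d⁻¹ * e'⁻¹ ∈ D U := by
        have := mul_mem hd (hnorm U hU e' he'.2 d⁻¹ (inv_mem hd))
        simpa [mul_assoc] using this
      have h2 : d * e' * d⁻¹ * e'⁻¹ ∈ D V :=
        mul_mem (hnorm V hV d hd.2 e' he') (inv_mem he')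
      have hVJ : U ∉ insert V J := by simp [hUV, (hins U hU).2.1]
      exact mul_inv_eq_iff_eq_mul.mp (mul_inv_eq_one.mp (hdisj U hU _ h1
        (hF.sup_le_cent (hins V hV).2.2 (hins U hU).1 hVJ h2.1)))
    have hDU : pr S (D U) = S := hF.pr_eq (inf_le_right.trans hLN) (hnorm U hU) hS (hfull S hS)
      (hf U hU)
    have hDV : pr S (D V) = S := hF.pr_eq (inf_le_right.trans hLN) (hnorm V hV) hS (hfull S hS)
      (e ▸ hf V hV)
    have hab : S ≤ centralizer (S : Set G) := by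
      intro a ha b hb
      obtain ⟨d, hd, h⟩ : a ∈ pr S (D U) := hDU.symm ▸ ha
      obtain ⟨e', he', h'⟩ : b ∈ pr S (D V) := hDV.symm ▸ hb
      refine hF.comp_unique hS (h'.mul h) ?_
      rw [← hcommDE d hd e' he']
      exact h.mul h'
    have := hF.simple S hS
    exact (nontrivial_iff_ne_bot S).mp inferInstance
      (le_bot_iff.mp ((le_inf le_rfl hab).trans (hF.inf_cent S hS).le))
  have h1 := Finset.card_le_card_of_injOn f (fun U hU => hfJ U hU) hinj
  have h2 := Finset.card_sdiff_add_card_eq_card hJ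
  omega

end Cfsg.Agent.CompLen
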