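import Cfsg.Agent.CompLen.Orbits
import Cfsg.Agent.CompLen.Factors

/-!
Primitive groups with a non-abelian minimal normal subgroup: either the socle factor is simple
and alone, or there is an action of smaller degree.
-/

set_option autoImplicit false

namespace Cfsg.Agent.CompLen

open MulAction Subgroup ExtremelyPrim

section

variable {G X : Type*} [Group G] [MulAction G X] [FaithfulSMul G X] [IsPretransitive G X]

theorem normal_le_stab {K : Subgroup G} [K.Normal] {w : X} (h : K ≤ stabilizer G w) : K = ⊥ := by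
  refine le_bot_iff.mp fun k hk => mem_bot.mpr (eq_of_smul_eq_smul fun y : X => ?_)
  obtain ⟨g, rfl⟩ := exists_smul_eq G w y
  have hm : g⁻¹ * k * g ∈ K := by simpa using (inferInstance : K.Normal).conj_mem k hk g⁻¹
  have := mem_stabilizer_iff.mp (h hm)
  rw [mul_smul, mul_smul, inv_smul_eq_iff] at this
  rw [one_smul, this]

theorem sup_stab_eq_top {K : Subgroup G} [K.Normal] {w : X} (hco : IsCoatom (stabilizer G w))
    (hK : K ≠ ⊥) : stabilizer G w ⊔ K = ⊤ := by
  rcases hco.le_iff.mp (le_sup_left : stabilizer G w ≤ stabilizer G w ⊔ K) with e | e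
  · exact e
  · exact absurd (normal_le_stab (e ▸ le_sup_right)) hK

theorem exists_smul_of_sup {K : Subgroup G} [K.Normal] {w : X}
    (htop : stabilizer G w ⊔ K = ⊤) (y : X) : ∃ a ∈ K, a • w = y := by
  obtain ⟨g, rfl⟩ := exists_smul_eq G w y
  have hg : g ∈ K ⊔ stabilizer G w := by rw [sup_comm, htop]; exact mem_top g
  obtain ⟨a, ha, h, hh, rfl⟩ := (mem_sup_of_normal_left (t := stabilizer G w)).mp hg
  exact ⟨a, ha, by rw [mul_smul, mem_stabilizer_iff.mp hh]⟩

end

section

variable {G : Type*} [Group G]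

/-- The bound from conjugation on a family of subgroups not all normalised by `N`. -/
theorem clen_le_conj_family [Finite G] {n : ℕ} (ih : ∀ m < n, Bd m) (N : Subgroup G)
    (hN : Core.IsMinNormal N) (Y : Set (Subgroup G)) (hY : ∀ g, ∀ R ∈ Y, cj g R ∈ Y)
    (hmove : ∃ R ∈ Y, ∃ x ∈ N, cj x R ≠ R) (hlt : Nat.card Y < n) :
    3 * clen G + 4 ≤ 3 * Nat.log 2 (Nat.card (centralizer (N : Set G))) + 4 * Nat.card Y := by
  letI act : MulAction G Y :=
    { smul := fun g R => ⟨cj g R.1, hY g R.1 R.2⟩
      one_smul := fun R => Subtype.ext (cj_one R.1)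
      mul_smul := fun g h R => Subtype.ext (cj_cj g h R.1).symm }
  obtain ⟨R, hR, x, hx, hne⟩ := hmove
  have : Nonempty Y := ⟨⟨R, hR⟩⟩
  have h := clen_le_ker_add (G := G) (ih _ hlt) (rfl : Nat.card Y = _)
  have h1 := orbs_pos (G := G) (X := Y)
  set K := (toPermHom G Y).ker with hK
  have hKN : ¬ N ≤ K := fun hle =>
    hne (congrArg Subtype.val (eq_of_mem_ker (⟨x, hle hx⟩ : K) ⟨R, hR⟩))
  have hKC : K ≤ centralizer (N : Set G) := by
    have hbot := (hN.le_or_inf_eq_bot K).resolve_left hKN
    intro k hk a ha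
    have hNn := hN.normal
    have hm : a * k * a⁻¹ * k⁻¹ ∈ N ⊓ K := by
      refine ⟨?_, K.mul_mem ((inferInstance : K.Normal).conj_mem k hk a) (K.inv_mem hk)⟩
      have := N.mul_mem ha (hNn.conj_mem a⁻¹ (N.inv_mem ha) k)
      simpa [mul_assoc] using this
    rw [hbot, mem_bot] at hm
    exact mul_inv_eq_iff_eq_mul.mp (mul_inv_eq_one.mp hm)
  have h2 : clen K ≤ Nat.log 2 (Nat.card (centralizer (N : Set G))) :=
    clen_le_log.trans (Nat.log_mono_right
      (Nat.le_of_dvd Nat.card_pos (card_dvd_of_le hKC)))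
  omega

end

section

variable {G : Type*} [Group G]

theorem cj_eq_map (g : G) (T : Subgroup G) :
    cj g T = T.map (MulAut.conj g).toMonoidHom := by
  ext x
  rw [mem_cj]
  refine ⟨fun h => ⟨_, h, by simp [mul_assoc]⟩, ?_⟩
  rintro ⟨t, ht, rfl⟩
  simpa [mul_assoc] using ht

theorem pr_cj {S L : Subgroup G} {h : G} (hL : cj h L = L) :
    pr (cj h S) L = cj h (pr S L) := by
  ext s
  constructor
  · rintro ⟨d, hd, hs, hc⟩
    rw [mem_cj]
    refine ⟨h⁻¹ * d * h, mem_cj.mp (hL.symm ▸ hd), mem_cj.mp hs, fun a ha => ?_⟩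
    have := mem_centralizer_iff.mp hc _ (conj_mem_cj (g := h) ha)
    calc a * ((h⁻¹ * s * h)⁻¹ * (h⁻¹ * d * h))
        = h⁻¹ * ((h * a * h⁻¹) * (s⁻¹ * d)) * h := by group
      _ = h⁻¹ * ((s⁻¹ * d) * (h * a * h⁻¹)) * h := by rw [this]
      _ = ((h⁻¹ * s * h)⁻¹ * (h⁻¹ * d * h)) * a := by group
  · intro hs
    obtain ⟨r, ⟨d, hd, hr, hc⟩, rfl⟩ := exists_of_mem_cj hs
    refine ⟨h * d * h⁻¹, hL.le (conj_mem_cj hd), conj_mem_cj hr, fun a ha => ?_⟩
    obtain ⟨b, hb, rfl⟩ := exists_of_mem_cj ha
    have := mem_centralizer_iff.mp hc b hb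
    calc h * b * h⁻¹ * ((h * r * h⁻¹)⁻¹ * (h * d * h⁻¹))
        = h * (b * (r⁻¹ * d)) * h⁻¹ := by group
      _ = h * ((r⁻¹ * d) * b) * h⁻¹ := by rw [this]
      _ = (h * r * h⁻¹)⁻¹ * (h * d * h⁻¹) * (h * b * h⁻¹) := by group

theorem pr_bot_le (S : Subgroup G) (hS : S ⊓ centralizer (S : Set G) = ⊥) : pr S ⊥ = ⊥ := by
  refine le_bot_iff.mp fun s => ?_
  rintro ⟨d, hd, hs, hc⟩
  rw [mem_bot] at hd
  subst hd
  rw [mul_one, inv_mem_iff] at hc
  exact hS ▸ mem_inf.mpr ⟨hs, hc⟩

theorem mul_card_sylow [Finite G] (T : Subgroup G) (p q : ℕ) [Fact p.Prime]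
    (hq : q = p ^ (Nat.card T).factorization p) :
    q * Nat.card {R : Subgroup G // R ≤ T ∧ Nat.card R = q} ≤ Nat.card T := by
  have e : Nat.card {R : Subgroup G // R ≤ T ∧ Nat.card R = q} ≤ Nat.card (Sylow p T) := by
    refine Nat.card_le_card_of_injective (fun R => Sylow.ofCard (R.1.subgroupOf T) (by
      rw [Nat.card_congr (subgroupOfEquivOfLe R.2.1).toEquiv, R.2.2, hq])) fun R R' h => ?_
    have h' := congrArg (fun P : Sylow p T => (P : Subgroup T)) h
    simp only [Sylow.coe_ofCard, subgroupOf_inj] at h'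
    rw [inf_eq_left.mpr R.2.1, inf_eq_left.mpr R'.2.1] at h'
    exact Subtype.ext h'
  obtain ⟨P⟩ := (inferInstance : Nonempty (Sylow p T))
  have hc := P.card_eq_index_normalizer
  have hPq : Nat.card P = q := hq ▸ P.card_eq_multiplicity
  have hle : q ≤ Nat.card (normalizer ((P : Subgroup T) : Set T)) :=
    hPq ▸ Nat.le_of_dvd Nat.card_pos (card_dvd_of_le le_normalizer)
  have := card_mul_index (normalizer ((P : Subgroup T) : Set T))
  calc q * Nat.card {R : Subgroup G // R ≤ T ∧ Nat.card R = q}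
      ≤ Nat.card (normalizer ((P : Subgroup T) : Set T)) *
          (normalizer ((P : Subgroup T) : Set T)).index := Nat.mul_le_mul hle (hc ▸ e)
    _ = Nat.card T := this

theorem not_normal_sylow {T : Type*} [Group T] [Finite T] [IsSimpleGroup T]
    (hna : ¬ ∀ a b : T, a * b = b * a) {p : ℕ} [Fact p.Prime] (hp : p ∣ Nat.card T)
    (P : Sylow p T) : ¬ (P : Subgroup T).Normal := by
  intro hn
  rcases hn.eq_bot_or_eq_top with e | e
  · exact P.ne_bot_of_dvd_card hp e
  · have hpg : IsPGroup p T := (e ▸ P.2 : IsPGroup p (⊤ : Subgroup T)).of_equiv topEquiv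
    have hc : center T ≠ ⊥ := fun hc => not_nontrivial (⊥ : Subgroup T) (hc ▸ hpg.center_nontrivial)
    have ht := ((inferInstance : (center T).Normal).eq_bot_or_eq_top).resolve_left hc
    exact hna fun a b => mem_center_iff.mp (ht ▸ mem_top b) a

theorem exists_odd_prime {T : Type*} [Group T] [Finite T] [IsSimpleGroup T]
    (hna : ¬ ∀ a b : T, a * b = b * a) : ∃ p, p.Prime ∧ 3 ≤ p ∧ p ∣ Nat.card T := by
  have ht1 : 1 < Nat.card T := Finite.one_lt_card
  by_contra! hall
  have h2 : ∀ p, p.Prime → p ∣ Nat.card T → p = 2 := fun p hp hd => by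
    have := hp.two_le
    by_contra h
    exact hall p hp (by omega) hd
  have : Fact (Nat.Prime 2) := ⟨Nat.prime_two⟩
  have hd2 : 2 ∣ Nat.card T := by
    obtain ⟨p, hp, hd⟩ := Nat.exists_prime_and_dvd ht1.ne'
    exact h2 p hp hd ▸ hd
  have hpow : Nat.card T = 2 ^ (Nat.card T).primeFactorsList.length :=
    Nat.eq_prime_pow_of_unique_prime_dvd Nat.card_pos.ne' fun {d} hd hdd => h2 d hd hdd
  obtain ⟨P⟩ := (inferInstance : Nonempty (Sylow 2 T))
  refine not_normal_sylow hna hd2 P ?_
  have : (P : Subgroup T) = ⊤ := by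
    apply eq_top_of_card_eq
    rw [P.card_eq_multiplicity, hpow, Nat.Prime.factorization_pow Nat.prime_two]
    simp
  rw [this]
  infer_instance

end

section

variable {G X : Type*} [Group G] [Finite G] [MulAction G X] [FaithfulSMul G X] [Finite X]
  [IsPretransitive G X]

theorem two_le_of_log {L n : ℕ} (h : 2 ^ L ≤ n) : 2 * L ≤ n := by
  refine le_trans ?_ h
  clear h
  induction L with
  | zero => simp
  | succ L ih =>
    have : 1 ≤ 2 ^ L := Nat.one_le_two_pow
    rw [pow_succ]
    omega

theorem mul_lt_pow {k m : ℕ} (hk : 2 ≤ k) (hm : 3 ≤ m) : k * m < m ^ k := by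
  induction k, hk using Nat.le_induction with
  | base => rw [pow_two]; exact (Nat.mul_lt_mul_right (by omega)).mpr (by omega)
  | succ k hk ih =>
    rw [pow_succ]
    calc (k + 1) * m = k * m + m := by ring
      _ < m ^ k + m ^ k := by
          have : m ≤ m ^ k := Nat.le_self_pow (by omega) m
          omega
      _ = m ^ k * 2 := by ring
      _ ≤ m ^ k * m := Nat.mul_le_mul_left _ (by omega)

theorem mul_le_pow {k t : ℕ} (hk : 1 ≤ k) (ht : 2 ≤ t) : k * t ≤ t ^ k := by
  induction k, hk using Nat.le_induction with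
  | base => simp
  | succ k hk ih =>
    rw [pow_succ]
    calc (k + 1) * t = k * t + t := by ring
      _ ≤ t ^ k + t ^ k := by
          have : t ≤ t ^ k := Nat.le_self_pow (by omega) t
          omega
      _ = t ^ k * 2 := by ring
      _ ≤ t ^ k * t := Nat.mul_le_mul_left _ ht

theorem bound_nonabelian {n : ℕ} (ih : ∀ m < n, Bd m) (hn : Nat.card X = n) (w : X)
    (hco : IsCoatom (stabilizer G w)) (N : Subgroup G) (hN : Core.IsMinNormal N)
    (hna : ¬ ∀ a ∈ N, ∀ b ∈ N, a * b = b * a) : 3 * clen G + 4 ≤ 4 * n := by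
  classical
  have hNn := hN.normal
  have htop := sup_stab_eq_top hco hN.ne_bot
  have hnpos : 2 ≤ n := by
    by_contra h
    have : Subsingleton X := Finite.card_le_one_iff_subsingleton.mp (by omega)
    refine hN.ne_bot (normal_le_stab (w := w) fun a _ => ?_)
    exact mem_stabilizer_iff.mpr (Subsingleton.elim _ _)
  obtain ⟨T, hTN, hTs, hTna, hnorm, hsup, hcomm, -⟩ := exists_factor hN hna
  set Fac : Finset (Subgroup G) := (Set.finite_range fun g => cj g T).toFinset with hFacdef
  have hmem : ∀ S, S ∈ Fac ↔ ∃ g, cj g T = S := fun S => by simp [hFacdef]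
  set t := Nat.card T with htdef
  have hcjN : ∀ g, cj g T ≤ N := fun g x hx => by
    obtain ⟨a, ha, rfl⟩ := exists_of_mem_cj hx
    exact hNn.conj_mem a (hTN ha) g
  have hF : Factors N Fac t := by
    constructor
    · intro S hS
      obtain ⟨g, rfl⟩ := (hmem S).mp hS
      exact hcjN g
    · rw [hsup]
      exact iSup_le fun g => Finset.le_sup (f := id) ((hmem _).mpr ⟨g, rfl⟩)
    · intro S hS
      obtain ⟨g, rfl⟩ := (hmem S).mp hS
      rw [cj_eq_map]
      have := hTs
      have : Nontrivial (T.map (MulAut.conj g).toMonoidHom) :=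
        (T.equivMapOfInjective _ (MulAut.conj g).injective).toEquiv.symm.nontrivial
      exact IsSimpleGroup.isSimpleGroup_of_surjective
        (T.equivMapOfInjective _ (MulAut.conj g).injective).toMonoidHom
        (MulEquiv.surjective _)
    · intro S hS
      obtain ⟨g, rfl⟩ := (hmem S).mp hS
      have := hTs
      have hz : center T = ⊥ :=
        ((inferInstance : (center T).Normal).eq_bot_or_eq_top).resolve_right fun e =>
          hTna fun a b => mem_center_iff.mp (e ▸ mem_top b) a
      refine le_bot_iff.mp fun x hx => ?_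
      obtain ⟨a, ha, rfl⟩ := exists_of_mem_cj hx.1
      have : (⟨a, ha⟩ : T) ∈ center T := by
        rw [mem_center_iff]
        rintro ⟨b, hb⟩
        have := mem_centralizer_iff.mp hx.2 _ (conj_mem_cj (g := g) hb)
        refine Subtype.ext (mul_right_cancel (b := g⁻¹) (mul_left_cancel (a := g) ?_))
        show g * (b * a * g⁻¹) = g * (a * b * g⁻¹)
        calc g * (b * a * g⁻¹) = g * b * g⁻¹ * (g * a * g⁻¹) := by group
          _ = g * a * g⁻¹ * (g * b * g⁻¹) := this
          _ = g * (a * b * g⁻¹) := by group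
      rw [hz, mem_bot, Subtype.ext_iff] at this
      simp [show a = 1 from this]
    · intro S hS U hU hne x hx y hy
      obtain ⟨g, rfl⟩ := (hmem S).mp hS
      obtain ⟨h, rfl⟩ := (hmem U).mp hU
      exact (hcomm g h hne x hx y hy).symm
    · intro S hS
      obtain ⟨g, rfl⟩ := (hmem S).mp hS
      rw [card_cj]
  have hrep : ∀ g : G, ∃ x ∈ N, ∃ h ∈ stabilizer G w, x * h = g := fun g => by
    have hg : g ∈ N ⊔ stabilizer G w := by rw [sup_comm, htop]; exact mem_top g
    exact (mem_sup_of_normal_left (t := stabilizer G w)).mp hg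
  have hFach : ∀ S ∈ Fac, ∃ h ∈ stabilizer G w, cj h T = S := by
    intro S hS
    obtain ⟨g, rfl⟩ := (hmem S).mp hS
    obtain ⟨x, hx, h, hh, rfl⟩ := hrep g
    exact ⟨h, hh, by rw [← cj_cj, hnorm x hx h]⟩
  have hTF : T ∈ Fac := (hmem T).mpr ⟨1, cj_one T⟩
  set k := Fac.card with hk
  have hk1 : 1 ≤ k := Finset.card_pos.mpr ⟨T, hTF⟩
  have ht2 : 2 ≤ t := by
    have := hTs
    exact Finite.one_lt_card
  by_cases hkone : k = 1
  · -- the socle factor is all of `N`
    obtain ⟨S, hS⟩ := Finset.card_eq_one.mp hkone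
    have hST : S = T := by
      rw [hS, Finset.mem_singleton] at hTF
      exact hTF.symm
    have hNT : N = T := le_antisymm (hF.sup.trans (by rw [hS, hST]; simp)) hTN
    have h1 := clen_le_normal_add_quotient N
    have h2 : clen N ≤ 1 := by
      rw [hNT]
      exact clen_le_one_of_simple
    have h3 : clen (G ⧸ N) ≤ clen (stabilizer G w) := by
      refine clen_le_of_surjective ((QuotientGroup.mk' N).comp (stabilizer G w).subtype) fun q => ?_
      induction q using QuotientGroup.induction_on with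
      | H g =>
        have hg : g ∈ stabilizer G w ⊔ N := by rw [htop]; exact mem_top g
        obtain ⟨h, hh, a, ha, rfl⟩ := (mem_sup_of_normal_right (t := N)).mp hg
        refine ⟨⟨h, hh⟩, QuotientGroup.eq.mpr ?_⟩
        simpa using ha
    let Y : SubMulAction (stabilizer G w) X :=
      { carrier := {w}ᶜ
        smul_mem' := fun h y hy e => hy (by
          rw [Set.mem_singleton_iff] at e ⊢
          have : (h : G) • y = w := e
          exact smul_left_cancel _ (this.trans (mem_stabilizer_iff.mp h.2).symm)) }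
    have hY : Nat.card Y + 1 = n := by
      rw [← hn, ← Nat.card_unique (α := ({w} : Set X)), add_comm, ← Nat.card_sum]
      exact Nat.card_congr (Equiv.Set.sumCompl ({w} : Set X))
    have : FaithfulSMul (stabilizer G w) Y := by
      refine ⟨fun {a b} h => Subtype.ext (eq_of_smul_eq_smul fun y : X => ?_)⟩
      by_cases hy : y = w
      · rw [hy, mem_stabilizer_iff.mp a.2, mem_stabilizer_iff.mp b.2]
      · exact congrArg Subtype.val (h ⟨y, hy⟩)
    have : Nonempty Y := (Nat.card_pos_iff.mp (by omega : 0 < Nat.card Y)).1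
    have h4 := bound_faithful (G := stabilizer G w) (ih _ (by omega)) (rfl : Nat.card Y = _)
    have h5 := orbs_pos (G := stabilizer G w) (X := Y)
    omega
  have hk2 : 2 ≤ k := by omega
  set L := N ⊓ stabilizer G w with hLdef
  have hLh : ∀ h ∈ stabilizer G w, cj h L = L := by
    intro h hh
    refine eq_of_le_of_card_ge (fun x hx => ?_) (card_cj h L).ge
    obtain ⟨a, ha, rfl⟩ := exists_of_mem_cj hx
    exact ⟨hNn.conj_mem a ha.1 h, mul_mem (mul_mem hh ha.2) ((stabilizer G w).inv_mem hh)⟩
  set R := pr T L with hRdef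
  have hRh : ∀ h ∈ stabilizer G w, pr (cj h T) L = cj h R := fun h hh => pr_cj (hLh h hh)
  -- orbits of products of factors
  have horb : ∀ J ⊆ Fac, J.sup id ⊓ L = ⊥ → t ^ J.card ≤ n := by
    intro J hJ hJL
    rw [← hF.card_sup J hJ, ← hn]
    refine Nat.card_le_card_of_injective (fun a : (J.sup id : Subgroup G) => (a : G) • w)
      fun a b e => Subtype.ext ?_
    have hm : (b : G)⁻¹ * a ∈ J.sup id ⊓ L :=
      ⟨(J.sup id).mul_mem ((J.sup id).inv_mem b.2) a.2,
        hF.sup_le hJ ((J.sup id).mul_mem ((J.sup id).inv_mem b.2) a.2),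
        mem_stabilizer_iff.mpr (by rw [mul_smul]; exact inv_smul_eq_iff.mpr e)⟩
    rw [hJL, mem_bot] at hm
    exact (inv_mul_eq_one.mp hm).symm
  -- the family of Sylow subgroups of the factors
  obtain ⟨p, hp, hp3, hpt⟩ := @exists_odd_prime T _ _ hTs hTna
  have := Fact.mk hp
  set q := p ^ t.factorization p with hq
  have hpq : p ≤ q := Nat.le_self_pow (hp.factorization_pos_of_dvd (by omega) hpt).ne' p
  set Y : Set (Subgroup G) := {P | ∃ S ∈ Fac, P ≤ S ∧ Nat.card P = q} with hYdef
  have hYinv : ∀ g, ∀ P ∈ Y, cj g P ∈ Y := by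
    rintro g P ⟨S, hS, hPS, hPc⟩
    obtain ⟨h, rfl⟩ := (hmem S).mp hS
    exact ⟨cj g (cj h T), (hmem _).mpr ⟨g * h, (cj_cj g h T).symm⟩, cj_mono hPS,
      by rw [card_cj, hPc]⟩
  have hYcard : q * Nat.card Y ≤ k * t := by
    have hsurj : Nat.card Y ≤
        Nat.card ((S : Fac) × {P : Subgroup G // P ≤ (S : Subgroup G) ∧ Nat.card P = q}) :=
      Nat.card_le_card_of_surjective
        (fun z => (⟨z.2.1, z.1.1, z.1.2, z.2.2⟩ : Y)) fun P => by
          obtain ⟨P, S, hS, hP⟩ := P
          exact ⟨⟨⟨S, hS⟩, ⟨P, hP⟩⟩, rfl⟩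
    rw [Nat.card_sigma] at hsurj
    refine (Nat.mul_le_mul_left q hsurj).trans ?_
    rw [Finset.mul_sum]
    refine (Finset.sum_le_sum (g := fun _ => t) fun S _ => ?_).trans_eq ?_
    · have := mul_card_sylow (S : Subgroup G) p q (by rw [hF.card S.1 S.2])
      rwa [hF.card S.1 S.2] at this
    · simp [hk]
  have hYmove : ∃ P ∈ Y, ∃ x ∈ N, cj x P ≠ P := by
    obtain ⟨P⟩ := (inferInstance : Nonempty (Sylow p T))
    refine ⟨(P : Subgroup T).map T.subtype, ⟨T, hTF, map_subtype_le _, ?_⟩, ?_⟩
    · rw [card_map_of_injective T.subtype_injective]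
      exact P.card_eq_multiplicity
    by_contra! hall
    have := hTs
    refine not_normal_sylow hTna hpt P ⟨fun a ha x => ?_⟩
    obtain ⟨b, hb, hbe⟩ := (hall x (hTN x.2)).le
      (conj_mem_cj (g := (x : G)) (mem_map_of_mem T.subtype ha))
    have : b = x * a * x⁻¹ := Subtype.ext (hbe.trans (by simp))
    exact this ▸ hb
  by_cases hC : centralizer (N : Set G) = ⊥
  swap
  · -- the centraliser is a second regular normal subgroup
    have hCn : (centralizer (N : Set G)).Normal := inferInstance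
    have hCtop := sup_stab_eq_top hco hC
    have hL : L = ⊥ := by
      refine le_bot_iff.mp fun a ha => mem_bot.mpr (eq_of_smul_eq_smul fun y : X => ?_)
      obtain ⟨c, hc, rfl⟩ := exists_smul_of_sup hCtop y
      rw [one_smul, ← mul_smul, mem_centralizer_iff.mp hc a ha.1, mul_smul,
        mem_stabilizer_iff.mp ha.2]
    have hkt : t ^ k ≤ n := horb Fac subset_rfl (by rw [hL, inf_bot_eq])
    have hCcard : Nat.card (centralizer (N : Set G)) ≤ n := by
      rw [← hn]
      refine Nat.card_le_card_of_injective (fun c : centralizer (N : Set G) => (c : G) • w)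
        fun c d e => Subtype.ext ?_
      have hm : (d : G)⁻¹ * c = 1 := by
        refine eq_of_smul_eq_smul fun y : X => ?_
        obtain ⟨a, ha, rfl⟩ := exists_smul_of_sup htop y
        have hcm : (d : G)⁻¹ * c ∈ centralizer (N : Set G) := mul_mem (inv_mem d.2) c.2
        rw [one_smul, ← mul_smul, ← mem_centralizer_iff.mp hcm a ha, mul_smul, mul_smul,
          show (c : G) • w = (d : G) • w from e, inv_smul_smul]
      exact (inv_mul_eq_one.mp hm).symm
    have hkt' := mul_le_pow hk1 ht2
    have hY3 : 3 * Nat.card Y ≤ n :=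
      le_trans (Nat.mul_le_mul_right _ (hp3.trans hpq)) (hYcard.trans (hkt'.trans hkt))
    have h := clen_le_conj_family ih N hN Y hYinv hYmove (by omega)
    have hlog := two_le_of_log (L := Nat.log 2 (Nat.card (centralizer (N : Set G))))
      ((Nat.pow_log_le_self 2 Nat.card_pos.ne').trans hCcard)
    omega
  have hClog : Nat.log 2 (Nat.card (centralizer (N : Set G))) = 0 := by simp [hC]
  by_cases hRT : R = T ∨ R = ⊥
  · -- diagonal or regular case
    obtain ⟨J, hJ, hJL, hJk⟩ : ∃ J ⊆ Fac, J.sup id ⊓ L = ⊥ ∧ k ≤ 2 * J.card := by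
      rcases hRT with e | e
      · have hfull : ∀ S ∈ Fac, pr S L = S := fun S hS => by
          obtain ⟨h, hh, rfl⟩ := hFach S hS
          rw [hRh h hh, e]
        refine hF.exists_half inf_le_left hfull fun S hS => ?_
        have hnS : ((S ⊓ L).subgroupOf S).Normal := by
          refine ⟨fun a ha s => ?_⟩
          obtain ⟨d, hd, hs⟩ : (s : G) ∈ pr S L := (hfull S hS).symm ▸ s.2
          have ha' : (a : G) ∈ S ⊓ L := mem_subgroupOf.mp ha
          refine mem_subgroupOf.mpr ⟨(s * a * s⁻¹).2, ?_⟩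
          rw [Subgroup.coe_mul, Subgroup.coe_mul, Subgroup.coe_inv, ← hs.conj_eq a.2]
          exact L.mul_mem (L.mul_mem hd ha'.2) (L.inv_mem hd)
        have := hF.simple S hS
        rcases hnS.eq_bot_or_eq_top with e' | e'
        · refine le_bot_iff.mp fun x hx => ?_
          have hm : (⟨x, hx.1⟩ : S) ∈ (S ⊓ L).subgroupOf S := hx
          rw [e', mem_bot, Subtype.ext_iff] at hm
          exact hm
        · exfalso
          have hSL : S ≤ L := (subgroupOf_eq_top.mp e').trans inf_le_right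
          obtain ⟨h, hh, hhS⟩ := hFach S hS
          refine hN.ne_bot (normal_le_stab (w := w) (hF.sup.trans (Finset.sup_le fun U hU => ?_)))
          obtain ⟨h', hh', rfl⟩ := hFach U hU
          have : cj h' T = cj (h' * h⁻¹) S := by rw [← hhS, cj_cj, inv_mul_cancel_right]
          show cj h' T ≤ stabilizer G w
          rw [this]
          exact (cj_mono hSL).trans ((hLh _ (mul_mem hh' (inv_mem hh))).le.trans inf_le_right)
      · refine ⟨Fac, subset_rfl, ?_, by omega⟩
        refine le_bot_iff.mp fun x hx => mem_bot.mpr (hF.eq_one' hx.2.1 fun S hS => ?_)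
        obtain ⟨s, hs⟩ := hF.exists_comp hS hx.2.1
        obtain ⟨h, hh, rfl⟩ := hFach S hS
        have hs1 : s ∈ cj h R := hRh h hh ▸ ⟨x, hx.2, hs⟩
        rw [e] at hs1
        have : s = 1 := by
          obtain ⟨r, hr, rfl⟩ := exists_of_mem_cj hs1
          simp [mem_bot.mp hr]
        simpa [this] using hs.2
    have hn' := horb J hJ hJL
    have hY3 : 3 * Nat.card Y ≤ k * t :=
      le_trans (Nat.mul_le_mul_right _ (hp3.trans hpq)) hYcard
    have hj : 1 ≤ J.card := by omega
    have hjt := mul_le_pow hj ht2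
    have hkj : k * t ≤ 2 * (J.card * t) := by
      rw [← mul_assoc]; exact Nat.mul_le_mul_right t hJk
    have h := clen_le_conj_family ih N hN Y hYinv hYmove (by omega)
    omega
  -- product action case
  push Not at hRT
  have hRle : R ≤ T := pr_le T L
  set m := R.relIndex T with hmdef
  have hRm : Nat.card R * m = t := by
    rw [hmdef, ← relIndex_bot_left, htdef, ← relIndex_bot_left,
      relIndex_mul_relIndex ⊥ R T bot_le hRle]
  have hm3 : 3 ≤ m := by
    have hm0 : m ≠ 0 := fun e => by rw [e, mul_zero] at hRm; omega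
    have hm1 : m ≠ 1 := fun e => hRT.1 (le_antisymm hRle (relIndex_eq_one.mp e))
    by_contra h
    have hm2 : (R.subgroupOf T).index = 2 := by
      rw [← relIndex]; omega
    have := hTs
    rcases (normal_of_index_eq_two hm2).eq_bot_or_eq_top with e | e
    · refine hRT.2 (le_bot_iff.mp fun x hx => ?_)
      have hm' : (⟨x, hRle hx⟩ : T) ∈ R.subgroupOf T := hx
      rw [e, mem_bot, Subtype.ext_iff] at hm'
      exact hm'
    · rw [e, index_top] at hm2
      omega
  have hidx : ∀ S ∈ Fac, Nat.card (S ⧸ (pr S L).subgroupOf S) = m := by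
    intro S hS
    rw [← index_eq_card]
    have h0 : 0 < Nat.card (pr S L) := Nat.card_pos
    have e : Nat.card (pr S L) * (pr S L).relIndex S = t := by
      rw [← relIndex_bot_left, ← hF.card S hS, ← relIndex_bot_left,
        relIndex_mul_relIndex ⊥ _ S bot_le (pr_le S L)]
    have ec : Nat.card (pr S L) = Nat.card R := by
      obtain ⟨h, hh, rfl⟩ := hFach S hS
      rw [hRh h hh, card_cj]
    rw [ec] at e h0
    exact Nat.eq_of_mul_eq_mul_left h0 (e.trans hRm.symm)
  have hprod : ∀ J ⊆ Fac,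
      m ^ J.card ≤ Nat.card {y : X // ∃ a ∈ J.sup id, a • w = y} := by
    intro J
    induction J using Finset.induction_on with
    | empty =>
      intro _
      have : Nonempty {y : X // ∃ a ∈ (∅ : Finset (Subgroup G)).sup id, a • w = y} :=
        ⟨⟨w, 1, one_mem _, one_smul _ _⟩⟩
      exact Nat.card_pos
    | @insert U J hUJ ihJ =>
      intro hJ
      have hU := hJ (Finset.mem_insert_self U J)
      have hJ' : J ⊆ Fac := (Finset.subset_insert U J).trans hJ
      rw [Finset.card_insert_of_notMem hUJ, pow_succ]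
      refine (Nat.mul_le_mul (ihJ hJ') (hidx U hU).ge).trans ?_
      rw [← Nat.card_prod]
      refine Nat.card_le_card_of_injective (fun z => ⟨(z.2.out : G) • z.1.1, ?_⟩) ?_
      · obtain ⟨a, ha, hae⟩ := z.1.2
        refine ⟨a * z.2.out, (hF.mem_insert hJ' hU hUJ).mpr ⟨a, ha, _, z.2.out.2, rfl⟩, ?_⟩
        rw [← mem_centralizer_iff.mp (hF.sup_le_cent hJ' hU hUJ ha) _ z.2.out.2, mul_smul, hae]
      · rintro ⟨⟨y, a, ha, rfl⟩, u⟩ ⟨⟨y', a', ha', rfl⟩, u'⟩ e
        have e' : (u.out : G) • a • w = (u'.out : G) • a' • w := congrArg Subtype.val e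
        have hm : ((u'.out : G) * a')⁻¹ * ((u.out : G) * a) ∈ L := by
          refine ⟨N.mul_mem (N.inv_mem (N.mul_mem (hF.le U hU u'.out.2) (hF.sup_le hJ' ha')))
            (N.mul_mem (hF.le U hU u.out.2) (hF.sup_le hJ' ha)), mem_stabilizer_iff.mpr ?_⟩
          rw [mul_smul, inv_smul_eq_iff, mul_smul, mul_smul, e']
        have hcompa : ∀ (v : U) (b : G), b ∈ J.sup id → IsComp U ((v : G) * b) v :=
          fun v b hb => ⟨v.2, by rw [inv_mul_cancel_left]; exact hF.sup_le_cent hJ' hU hUJ hb⟩
        have hc : IsComp U (((u'.out : G) * a')⁻¹ * ((u.out : G) * a)) ((u'.out : G)⁻¹ * u.out) :=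
          (hcompa u'.out a' ha').inv.mul (hcompa u.out a ha)
        have hu : u = u' := by
          rw [← u.out_eq, ← u'.out_eq]
          refine (QuotientGroup.eq.mpr (mem_subgroupOf.mpr ?_)).symm
          exact ⟨_, hm, hc⟩
        subst hu
        exact Prod.ext (Subtype.ext (smul_left_cancel _ e')) rfl
  have hmn : m ^ k ≤ n :=
    (hprod Fac subset_rfl).trans (hn ▸ Nat.card_le_card_of_injective _ Subtype.val_injective)
  set Z : Set (Subgroup G) := Set.range fun g => cj g R with hZdef
  have hZcard : Nat.card Z ≤ k * m := by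
    choose! hf hhf hhS using hFach
    have hs : Nat.card Z ≤ Nat.card ((S : Fac) × (S.1 ⧸ (pr S.1 L).subgroupOf S.1)) := by
      refine Nat.card_le_card_of_surjective
        (fun z => (⟨cj (z.2.out : G) (pr z.1.1 L), (z.2.out : G) * hf z.1.1, ?_⟩ : Z)) ?_
      · show cj _ R = _
        exact ((congrArg (cj _) ((congrArg (fun S => pr S L)
          (hhS z.1.1 z.1.2).symm).trans (hRh _ (hhf z.1.1 z.1.2)))).trans (cj_cj _ _ _)).symm
      · rintro ⟨_, g, rfl⟩
        obtain ⟨x, hx, h, hh, rfl⟩ := hrep g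
        set S := cj h T with hSdef
        have hS : S ∈ Fac := (hmem S).mpr ⟨h, rfl⟩
        obtain ⟨s, hs⟩ := hF.exists_comp hS hx
        refine ⟨⟨⟨S, hS⟩, QuotientGroup.mk ⟨s, hs.1⟩⟩, Subtype.ext ?_⟩
        obtain ⟨r, hr⟩ := QuotientGroup.mk_out_eq_mul ((pr S L).subgroupOf S) ⟨s, hs.1⟩
        show cj _ (pr S L) = cj (x * h) R
        rw [hr, ← cj_cj x, ← hRh h hh]
        have hr' : ((r : S) : G) ∈ pr S L := mem_subgroupOf.mp r.2
        ext z
        simp only [mem_cj, Subgroup.coe_mul]
        constructor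
        · intro hz
          have hz' : s⁻¹ * z * s ∈ pr S L := by
            have := mul_mem (mul_mem hr' hz) (inv_mem hr')
            simpa [mul_assoc] using this
          have : x * (s⁻¹ * z * s) * x⁻¹ = z := by
            rw [hs.conj_eq (pr_le S L hz')]; group
          rw [← this]
          simpa [mul_assoc] using hz'
        · intro hz
          have : s * (x⁻¹ * z * x) * s⁻¹ = z := by
            rw [← hs.conj_eq (pr_le S L hz)]; group
          have hz' : s⁻¹ * z * s ∈ pr S L := by
            rw [← this]; simpa [mul_assoc] using hz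
          have := mul_mem (mul_mem (inv_mem hr') hz') hr'
          simpa [mul_assoc] using this
    rw [Nat.card_sigma] at hs
    refine hs.trans ((Finset.sum_le_sum (g := fun _ => m) fun S _ => (hidx S.1 S.2).le).trans_eq ?_)
    simp [hk]
  have hZinv : ∀ g, ∀ P ∈ Z, cj g P ∈ Z := by
    rintro g _ ⟨h, rfl⟩
    exact ⟨g * h, (cj_cj g h R).symm⟩
  have hZmove : ∃ P ∈ Z, ∃ x ∈ N, cj x P ≠ P := by
    refine ⟨R, ⟨1, cj_one R⟩, ?_⟩
    by_contra! hall
    have hn' : (R.subgroupOf T).Normal := ⟨fun a ha x => mem_subgroupOf.mpr (by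
      simpa using (hall x (hTN x.2)).le (conj_mem_cj (g := (x : G)) (mem_subgroupOf.mp ha)))⟩
    have := hTs
    rcases hn'.eq_bot_or_eq_top with e | e
    · refine hRT.2 (le_bot_iff.mp fun x hx => ?_)
      have hm' : (⟨x, hRle hx⟩ : T) ∈ R.subgroupOf T := hx
      rw [e, mem_bot, Subtype.ext_iff] at hm'
      exact hm'
    · exact hRT.1 (le_antisymm hRle (subgroupOf_eq_top.mp e))
  have hlt : Nat.card Z < n := lt_of_le_of_lt hZcard ((mul_lt_pow hk2 hm3).trans_le hmn)
  have h := clen_le_conj_family ih N hN Z hZinv hZmove hlt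
  omega

end

end Cfsg.Agent.CompLen
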