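import Cfsg.Agent.CompLen.Abelian
import Cfsg.Agent.CompLen.NonAbelian

/-!
The composition length of a permutation group is at most `4 (n - r) / 3`.
-/

set_option autoImplicit false

namespace Cfsg.Agent.CompLen

open MulAction Subgroup

theorem bound_trans {G X : Type*} [Group G] [Finite G] [MulAction G X] [FaithfulSMul G X]
    [Finite X] [IsPretransitive G X] {n : ℕ} (ih : ∀ m < n, Bd m) (hn : Nat.card X = n) (w : X) :
    3 * clen G + 4 ≤ 4 * n := by
  classical
  have : Nonempty X := ⟨w⟩
  have hnpos : 1 ≤ n := hn ▸ Nat.card_pos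
  rcases subsingleton_or_nontrivial G with hG | hG
  · have : clen G = 0 := Nat.le_zero.mp (clen_le_log.trans (by simp [Nat.card_unique]))
    omega
  by_cases hco : IsCoatom (stabilizer G w)
  · obtain ⟨N, hN⟩ := Core.exists_isMinNormal (G := G)
    have := hN.normal
    by_cases hab : ∀ a ∈ N, ∀ b ∈ N, a * b = b * a
    · have : IsMulCommutative N := ⟨⟨fun a b => Subtype.ext (hab a a.2 b b.2)⟩⟩
      obtain ⟨p, hp, hexp⟩ := hN.exists_prime_pow_eq_one
      exact bound_abelian hn w N hN.ne_bot hab hp hexp (sup_stab_eq_top hco hN.ne_bot)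
    · exact bound_nonabelian ih hn w hco N hN hab
  · have hne : stabilizer G w ≠ ⊤ := fun e => top_ne_bot (normal_le_stab (w := w) e.ge)
    obtain ⟨H, h1, h2⟩ : ∃ H, stabilizer G w < H ∧ H ≠ ⊤ := by
      by_contra! hall
      exact hco ⟨hne, hall⟩
    exact bound_imprim ih hn w H h1 h2

theorem bd (n : ℕ) : Bd n := by
  induction n using Nat.strong_induction_on with
  | _ n ih =>
    intro H
    have hn : Nat.card (Fin n) = n := Nat.card_fin n
    by_cases h2 : 2 ≤ orbs H (Fin n)
    · exact bound_intrans ih hn h2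
    rcases isEmpty_or_nonempty (Fin n) with he | he
    · have hn0 : n = 0 := by
        by_contra h
        exact he.false ⟨0, Nat.pos_of_ne_zero h⟩
      subst hn0
      have hs : Subsingleton H := Subsingleton.intro fun a b => Subtype.ext (Equiv.ext fun x => x.elim0)
      have : clen H = 0 := Nat.le_zero.mp (clen_le_log.trans (by simp [Nat.card_unique]))
      have : orbs H (Fin 0) = 0 := by simp [orbs]
      omega
    have h1 := orbs_pos (G := H) (X := Fin n)
    have hsub : Subsingleton (Quotient (orbitRel H (Fin n))) :=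
      Finite.card_le_one_iff_subsingleton.mp (show orbs H (Fin n) ≤ 1 by omega)
    have : IsPretransitive H (Fin n) := ⟨fun a b => mem_orbit_iff.mp
      (orbitRel_apply.mp (Quotient.eq.mp
        (Subsingleton.elim (Quotient.mk (orbitRel H (Fin n)) b) (Quotient.mk _ a))))⟩
    have := bound_trans ih hn (Classical.arbitrary (Fin n)) (G := H)
    omega

theorem ch_of_chain {G : Type*} [Group G] {l : ℕ} (H : Fin (l + 1) → Subgroup G) (h0 : H 0 = ⊥)
    (hchain : ∀ i : Fin l, H i.castSucc < H i.succ ∧
      ((H i.castSucc).subgroupOf (H i.succ)).Normal) (i : Fin (l + 1)) : Ch (H i) (i : ℕ) := by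
  induction i using Fin.induction with
  | zero => rw [h0]; exact Ch.bot
  | succ i ih =>
    rw [Fin.val_succ]
    refine Ch.step ih (hchain i).1 fun k hk h hh => ?_
    exact mem_subgroupOf.mp
      ((hchain i).2.conj_mem ⟨h, (hchain i).1.le hh⟩ (mem_subgroupOf.mpr hh) ⟨k, hk⟩)

end Cfsg.Agent.CompLen
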