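import Cfsg.Agent.CompLen.Basic

/-!
The inductive statement on permutation groups, its transfer to arbitrary actions, and the
intransitive and imprimitive steps.
-/

set_option autoImplicit false

namespace Cfsg.Agent.CompLen

open MulAction Subgroup

/-- The number of orbits. -/
noncomputable def orbs (G X : Type*) [Group G] [MulAction G X] : ℕ :=
  Nat.card (Quotient (orbitRel G X))

/-- The bound in degree `n`. -/
def Bd (n : ℕ) : Prop :=
  ∀ H : Subgroup (Equiv.Perm (Fin n)), 3 * clen H + 4 * orbs H (Fin n) ≤ 4 * n

section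

variable {G X : Type*} [Group G] [MulAction G X]

theorem orbs_pos [Finite X] [Nonempty X] : 0 < orbs G X := by
  have : Nonempty (Quotient (orbitRel G X)) := ⟨Quotient.mk _ (Classical.arbitrary X)⟩
  exact Nat.card_pos

theorem bound_range [Finite X] {n : ℕ} (hB : Bd n) (hn : Nat.card X = n) :
    3 * clen (toPermHom G X).range + 4 * orbs G X ≤ 4 * n := by
  let e : X ≃ Fin n := Finite.equivFinOfCardEq hn
  set H := (toPermHom G X).range.map e.permCongrHom.toMonoidHom with hH
  have h1 : clen (toPermHom G X).range ≤ clen H :=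
    clen_le_of_equiv ((toPermHom G X).range.equivMapOfInjective _ e.permCongrHom.injective)
  have h2 : orbs G X = orbs H (Fin n) := by
    refine Nat.card_congr (Quotient.congr e fun a b => ?_)
    rw [orbitRel_apply, orbitRel_apply, mem_orbit_iff, mem_orbit_iff]
    constructor
    · rintro ⟨g, rfl⟩
      refine ⟨⟨_, mem_map_of_mem _ ⟨g, rfl⟩⟩, ?_⟩
      simp [Subgroup.smul_def, Equiv.permCongr_apply]
    · rintro ⟨⟨_, _, ⟨g, rfl⟩, rfl⟩, h⟩
      refine ⟨g, e.injective ?_⟩
      simpa [Subgroup.smul_def, Equiv.permCongr_apply] using h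
  have := hB H
  omega

theorem bound_faithful [Finite G] [Finite X] [FaithfulSMul G X] {n : ℕ} (hB : Bd n)
    (hn : Nat.card X = n) : 3 * clen G + 4 * orbs G X ≤ 4 * n := by
  have h := bound_range (G := G) hB hn
  have h1 : clen G ≤ clen (toPermHom G X).range :=
    clen_le_of_equiv (MonoidHom.ofInjective (toPerm_injective (α := G) (β := X)))
  omega

theorem clen_le_ker_add [Finite G] [Finite X] {n : ℕ} (hB : Bd n) (hn : Nat.card X = n) :
    3 * clen G + 4 * orbs G X ≤ 3 * clen (toPermHom G X).ker + 4 * n := by
  have h := bound_range (G := G) hB hn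
  have h1 := clen_le_ker_add_range (toPermHom G X)
  omega

theorem eq_of_mem_ker (k : (toPermHom G X).ker) (x : X) : (k : G) • x = x := by
  have h : toPermHom G X (k : G) = 1 := k.2
  exact DFunLike.congr_fun h x

end

/-- The intransitive step. -/
theorem bound_intrans {G X : Type*} [Group G] [Finite G] [MulAction G X] [FaithfulSMul G X]
    [Finite X] {n : ℕ} (ih : ∀ m < n, Bd m) (hn : Nat.card X = n) (h2 : 2 ≤ orbs G X) :
    3 * clen G + 4 * orbs G X ≤ 4 * n := by
  classical
  have : Nonempty X := by
    by_contra hne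
    rw [not_nonempty_iff] at hne
    have : IsEmpty (Quotient (orbitRel G X)) := ⟨fun q => Quotient.inductionOn q isEmptyElim⟩
    simp [orbs] at h2
  obtain ⟨x⟩ := this
  let S : SubMulAction G X :=
    { carrier := (orbit G x)ᶜ
      smul_mem' := fun g y hy h => hy (by simpa using mem_orbit_of_mem_orbit g⁻¹ h) }
  have hcard : Nat.card (orbit G x) + Nat.card S = n := by
    rw [← hn, ← Nat.card_sum]
    exact Nat.card_congr (Equiv.Set.sumCompl (orbit G x))
  have hS : 0 < Nat.card S := by
    by_contra h0
    have hall : ∀ y, y ∈ orbit G x := by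
      intro y
      by_contra hy
      have : Nonempty S := ⟨⟨y, hy⟩⟩
      exact h0 Nat.card_pos
    have : Subsingleton (Quotient (orbitRel G X)) := ⟨fun a b => Quotient.inductionOn₂ a b
      fun a b => Quotient.sound (orbitRel_apply.mpr ((orbit_eq_iff.mpr (hall b)).symm ▸ hall a))⟩
    have := Finite.card_le_one_iff_subsingleton.mpr this
    unfold orbs at h2
    omega
  have : Nonempty (orbit G x) := ⟨⟨x, mem_orbit_self x⟩⟩
  have hO : 0 < Nat.card (orbit G x) := Nat.card_pos
  have h1 := clen_le_ker_add (G := G) (ih _ (by omega)) (rfl : Nat.card (orbit G x) = _)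
  have h1' := orbs_pos (G := G) (X := orbit G x)
  set K := (toPermHom G (orbit G x)).ker with hK
  have hf : FaithfulSMul K S := by
    refine ⟨fun {a b} h => Subtype.ext (eq_of_smul_eq_smul fun y : X => ?_)⟩
    by_cases hy : y ∈ orbit G x
    · have ea := congrArg Subtype.val (eq_of_mem_ker a ⟨y, hy⟩)
      have eb := congrArg Subtype.val (eq_of_mem_ker b ⟨y, hy⟩)
      exact ea.trans eb.symm
    · exact congrArg Subtype.val (h ⟨y, hy⟩)
  have h3 := bound_faithful (G := K) (ih _ (by omega)) (rfl : Nat.card S = _)
  have h4 : orbs G X ≤ orbs K S + 1 := by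
    rw [orbs, orbs, ← Finite.card_option]
    refine Nat.card_le_card_of_surjective
      (fun o => Option.elim o (Quotient.mk _ x) (Quotient.lift (fun y : S => Quotient.mk _ (y : X))
        fun a b hab => ?_)) ?_
    · obtain ⟨k, hk⟩ := orbitRel_apply.mp hab
      exact Quotient.sound (orbitRel_apply.mpr ⟨(k : G), congrArg Subtype.val hk⟩)
    · intro q
      induction q using Quotient.inductionOn with
      | h y =>
        by_cases hy : y ∈ orbit G x
        · exact ⟨none, Quotient.sound (orbitRel_apply.mpr (mem_orbit_symm.mp hy))⟩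
        · exact ⟨some (Quotient.mk _ ⟨y, hy⟩), rfl⟩
  omega

/-- The imprimitive step: a subgroup strictly above a point stabiliser. -/
theorem bound_imprim {G X : Type*} [Group G] [Finite G] [MulAction G X] [FaithfulSMul G X]
    [Finite X] [IsPretransitive G X] {n : ℕ} (ih : ∀ m < n, Bd m) (hn : Nat.card X = n) (w : X)
    (H : Subgroup G) (h1 : stabilizer G w < H) (h2 : H ≠ ⊤) :
    3 * clen G + 4 ≤ 4 * n := by
  have hidx : H.index < n := by
    rw [← hn, ← index_stabilizer_of_transitive G w, ← relIndex_mul_index h1.le]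
    have hi : H.index ≠ 0 := index_ne_zero_of_finite
    have h0 : (stabilizer G w).relIndex H ≠ 0 := by
      have := relIndex_mul_index h1.le
      intro h0
      rw [h0, zero_mul] at this
      exact index_ne_zero_of_finite this.symm
    have h1' : (stabilizer G w).relIndex H ≠ 1 := fun e => h1.not_ge (relIndex_eq_one.mp e)
    have h2i : 2 * H.index ≤ (stabilizer G w).relIndex H * H.index := Nat.mul_le_mul_right _ (by omega)
    omega
  have hb2 : 2 ≤ H.index := one_lt_index_of_ne_top h2
  have hB := clen_le_ker_add (G := G) (X := G ⧸ H) (ih _ hidx) (rfl : Nat.card (G ⧸ H) = _)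
  have hB1 := orbs_pos (G := G) (X := G ⧸ H)
  set K := (toPermHom G (G ⧸ H)).ker with hK
  have hne : ∀ y : X, ∃ g : G, g • w = y := fun y => exists_smul_eq G w y
  choose f hf using hne
  have hwell : ∀ (g : G) (y : X), g • w = y → ((g : G) : G ⧸ H) = (f y : G) := by
    intro g y hg
    refine QuotientGroup.eq.mpr (h1.le ?_)
    rw [mem_stabilizer_iff, mul_smul, hf, ← hg, inv_smul_smul]
  have hr : H.index ≤ orbs K X := by
    rw [index_eq_card, orbs]
    refine Nat.card_le_card_of_surjective
      (Quotient.lift (fun y : X => ((f y : G) : G ⧸ H)) fun a b hab => ?_) fun q => ?_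
    · obtain ⟨k, hk⟩ := orbitRel_apply.mp hab
      have hk' : (k : G) • b = a := hk
      rw [← hwell ((k : G) * f b) a (by rw [mul_smul, hf, hk'])]
      exact eq_of_mem_ker k ((f b : G) : G ⧸ H)
    · induction q using Quotient.inductionOn with
      | h g => exact ⟨Quotient.mk _ (g • w), (hwell g _ rfl).symm⟩
  have h3 := bound_intrans (G := K) ih hn (by omega)
  have e : Nat.card (G ⧸ H) = H.index := (index_eq_card H).symm
  omega

end Cfsg.Agent.CompLen
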